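import Mathlib

set_option autoImplicit false

/-! Generic calculus of transvections inside a subgroup `M` of `GL(V)`. -/

namespace Cfsg.Agent.Lib.Helper97

open Module

variable {K V : Type*} [Field K] [AddCommGroup V] [Module K V]

/-- The transvection `x ↦ x + φ x • v` is defined and lies in `M`. -/
def TX (M : Subgroup (V ≃ₗ[K] V)) (v : V) (φ : Dual K V) : Prop :=
  ∃ h : φ v = 0, LinearEquiv.transvection h ∈ M

variable {M : Subgroup (V ≃ₗ[K] V)}

lemma TX.apply_eq_zero {v : V} {φ : Dual K V} (h : TX M v φ) : φ v = 0 := h.1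

lemma TX.mem {v : V} {φ : Dual K V} (h : TX M v φ) (h0 : φ v = 0) :
    LinearEquiv.transvection h0 ∈ M := h.2

lemma TX_of_eq {v : V} {φ : Dual K V} (h0 : φ v = 0) {e : V ≃ₗ[K] V} (he : e ∈ M)
    (hx : ∀ x, e x = x + φ x • v) : TX M v φ := by
  refine ⟨h0, ?_⟩
  have : LinearEquiv.transvection h0 = e := by
    ext x
    rw [hx, LinearEquiv.transvection.apply]
  rw [this]; exact he

lemma TX_zero_right (v : V) : TX M v 0 :=
  TX_of_eq (by simp) M.one_mem (fun x => by simp)

lemma TX_zero_left (φ : Dual K V) : TX M 0 φ :=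
  TX_of_eq (by simp) M.one_mem (fun x => by simp)

lemma TX.add_right {v : V} {φ ψ : Dual K V} (h1 : TX M v φ) (h2 : TX M v ψ) : TX M v (φ + ψ) := by
  obtain ⟨a, ha⟩ := h1
  obtain ⟨b, hb⟩ := h2
  refine TX_of_eq (by simp [a, b]) (M.mul_mem ha hb) (fun x => ?_)
  simp only [LinearEquiv.mul_apply, LinearEquiv.transvection.apply, map_add, map_smul, a,
    LinearMap.add_apply]
  module

lemma TX.add_left {v w : V} {φ : Dual K V} (h1 : TX M v φ) (h2 : TX M w φ) : TX M (v + w) φ := by
  obtain ⟨a, ha⟩ := h1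
  obtain ⟨b, hb⟩ := h2
  refine TX_of_eq (by simp [a, b]) (M.mul_mem ha hb) (fun x => ?_)
  simp only [LinearEquiv.mul_apply, LinearEquiv.transvection.apply, map_add, map_smul, b]
  module

lemma TX.neg_right {v : V} {φ : Dual K V} (h1 : TX M v φ) : TX M v (-φ) := by
  obtain ⟨a, ha⟩ := h1
  have a' : (-φ) v = 0 := by simp [a]
  refine ⟨a', ?_⟩
  rw [← LinearEquiv.transvection.inv_eq' a a']
  exact M.inv_mem ha

lemma TX.neg_left {v : V} {φ : Dual K V} (h1 : TX M v φ) : TX M (-v) φ := by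
  obtain ⟨a, ha⟩ := h1
  have a' : φ (-v) = 0 := by simp [a]
  refine ⟨a', ?_⟩
  rw [← LinearEquiv.transvection.inv_eq a a']
  exact M.inv_mem ha

lemma TX.sub_right {v : V} {φ ψ : Dual K V} (h1 : TX M v φ) (h2 : TX M v ψ) : TX M v (φ - ψ) := by
  rw [sub_eq_add_neg]; exact h1.add_right h2.neg_right

lemma TX.sub_left {v w : V} {φ : Dual K V} (h1 : TX M v φ) (h2 : TX M w φ) : TX M (v - w) φ := by
  rw [sub_eq_add_neg]; exact h1.add_left h2.neg_left

lemma TX_smul_comm {v : V} {φ : Dual K V} (c : K) : TX M (c • v) φ ↔ TX M v (c • φ) := by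
  constructor
  · rintro ⟨a, ha⟩
    by_cases hc : c = 0
    · subst hc; simpa using TX_zero_right v
    refine TX_of_eq ?_ ha (fun x => ?_)
    · simpa using a
    · simp only [LinearEquiv.transvection.apply, LinearMap.smul_apply, smul_eq_mul, smul_smul]
      rw [mul_comm]
  · rintro ⟨a, ha⟩
    refine TX_of_eq ?_ ha (fun x => ?_)
    · simpa using a
    · simp only [LinearEquiv.transvection.apply, LinearMap.smul_apply, smul_eq_mul, smul_smul]
      rw [mul_comm]

/-- Conjugation rule. -/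
lemma TX.conj {v : V} {φ : Dual K V} (h : TX M v φ) {m : V ≃ₗ[K] V} (hm : m ∈ M) :
    TX M (m v) (φ ∘ₗ (m.symm : V →ₗ[K] V)) := by
  obtain ⟨a, ha⟩ := h
  refine TX_of_eq (by simp [a]) (M.mul_mem (M.mul_mem hm ha) (M.inv_mem hm)) (fun x => ?_)
  have : (m⁻¹ : V ≃ₗ[K] V) x = m.symm x := rfl
  simp only [LinearEquiv.mul_apply, LinearEquiv.transvection.apply, this, map_add, map_smul,
    LinearEquiv.apply_symm_apply, LinearMap.comp_apply, LinearEquiv.coe_coe]

/-- Commutator rule. -/
lemma TX.comm {u w : V} {φ ψ : Dual K V} (h1 : TX M u φ) (h2 : TX M w ψ) (h : ψ u = 0) :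
    TX M u (φ w • ψ) := by
  obtain ⟨a, ha⟩ := h1
  obtain ⟨b, hb⟩ := h2
  refine TX_of_eq (by simp [h])
    (M.mul_mem (M.mul_mem (M.mul_mem ha hb) (M.inv_mem ha)) (M.inv_mem hb)) (fun x => ?_)
  have a' : φ (-u) = 0 := by simp [a]
  have b' : ψ (-w) = 0 := by simp [b]
  rw [LinearEquiv.transvection.inv_eq a a', LinearEquiv.transvection.inv_eq b b']
  simp only [LinearEquiv.mul_apply, LinearEquiv.transvection.apply, map_add, map_smul, map_neg,
    smul_eq_mul, a, b, h, LinearMap.smul_apply, smul_neg]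
  module

/-- `v` is a full centre for `M`: all transvections with centre `v` lie in `M`. -/
def Full (M : Subgroup (V ≃ₗ[K] V)) (v : V) : Prop := ∀ φ : Dual K V, φ v = 0 → TX M v φ

lemma Full.smul {v : V} (h : Full M v) (c : K) : Full M (c • v) := by
  intro φ hφ
  by_cases hc : c = 0
  · subst hc; simpa using TX_zero_left φ
  rw [TX_smul_comm]
  apply h
  have : c * φ v = 0 := by simpa using hφ
  simpa using this

lemma Full.conj {v : V} (h : Full M v) {m : V ≃ₗ[K] V} (hm : m ∈ M) : Full M (m v) := by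
  intro φ hφ
  have h1 := (h (φ ∘ₗ (m : V →ₗ[K] V)) (by simpa using hφ)).conj hm
  have : (φ ∘ₗ (m : V →ₗ[K] V)) ∘ₗ (m.symm : V →ₗ[K] V) = φ := by
    ext x; simp
  rwa [this] at h1

lemma full_zero : Full M (0 : V) := fun φ _ => TX_zero_left φ

lemma Full.add {v w : V} (h1 : Full M v) (h2 : Full M w) : Full M (v + w) := by
  by_cases hv : v ∈ Submodule.span K {w}
  · obtain ⟨c, rfl⟩ := Submodule.mem_span_singleton.1 hv
    have : c • w + w = (c + 1) • w := by rw [add_smul, one_smul]
    rw [this]; exact h2.smul _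
  · obtain ⟨f, hf, hfw⟩ := Submodule.exists_dual_map_eq_bot_of_notMem hv inferInstance
    have hw0 : f w = 0 := by
      have : f w ∈ (Submodule.span K {w}).map f := ⟨w, Submodule.mem_span_singleton_self w, rfl⟩
      rw [hfw] at this
      simpa using this
    have hψ : ((f v)⁻¹ • f) w = 0 := by simp [hw0]
    have hm := (h2 _ hψ).mem hψ
    have := h1.conj hm
    rw [LinearEquiv.transvection.apply] at this
    simpa [hf] using this

/-- The subspace of full centres. -/
def fullSub (M : Subgroup (V ≃ₗ[K] V)) : Submodule K V where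
  carrier := {v | Full M v}
  add_mem' := fun h1 h2 => h1.add h2
  zero_mem' := full_zero
  smul_mem' := fun c _ h => h.smul c

lemma mem_fullSub {v : V} : v ∈ fullSub M ↔ Full M v := Iff.rfl

lemma fullSub_conj {v : V} (h : v ∈ fullSub M) {m : V ≃ₗ[K] V} (hm : m ∈ M) : m v ∈ fullSub M :=
  Full.conj h hm

lemma transvection_mem_of_fullSub_eq_top (h : fullSub M = ⊤) (f : Dual K V) (v : V) (hfv : f v = 0) :
    LinearEquiv.transvection hfv ∈ M := by
  have : v ∈ fullSub M := by rw [h]; trivial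
  exact (this f hfv).mem hfv

/-- If the full centres contain `u` and the kernel of a functional `ψ` with `ψ u ≠ 0`, they are
everything. -/
lemma fullSub_eq_top_of_ker {u : V} {ψ : Dual K V} (hu : u ∈ fullSub M) (hψ : ψ u ≠ 0)
    (hker : ∀ y, ψ y = 0 → y ∈ fullSub M) : fullSub M = ⊤ := by
  rw [eq_top_iff]
  intro x _
  have h1 : x - (ψ x / ψ u) • u ∈ fullSub M := by
    apply hker
    simp [hψ]
  have := (fullSub M).add_mem h1 ((fullSub M).smul_mem (ψ x / ψ u) hu)
  simpa using this

end Cfsg.Agent.Lib.Helper97
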